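import Mathlib

/-!
Abelian groups with a fixed-point-free endomorphism of prime order.
-/

set_option autoImplicit false

namespace Cfsg.Agent.CycMod

variable {V : Type*} [AddCommGroup V] (a : AddMonoid.End V)

/-- The ring generated by one endomorphism. -/
def gen : Subring (AddMonoid.End V) := Subring.closure {a}

theorem mem_gen : a ∈ gen a := Subring.subset_closure rfl

theorem gen_comm {s t : AddMonoid.End V} (hs : s ∈ gen a) (ht : t ∈ gen a) : s * t = t * s := by
  haveI : IsMulCommutative (gen a) := Subring.isMulCommutative_closure (by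
    rintro x (rfl : x = a) y (rfl : y = x); rfl)
  exact congrArg Subtype.val (setLike_mul_comm' (⟨s, hs⟩ : gen a) ⟨t, ht⟩)
where
  setLike_mul_comm' [IsMulCommutative (gen a)] (x y : gen a) : x * y = y * x :=
    IsMulCommutative.is_comm.comm x y

/-- The orbit of `v` under the ring generated by `a`. -/
def cyc (v : V) : AddSubgroup V where
  carrier := {w | ∃ t ∈ gen a, t v = w}
  zero_mem' := ⟨0, zero_mem _, rfl⟩
  add_mem' := by
    rintro _ _ ⟨s, hs, rfl⟩ ⟨t, ht, rfl⟩
    exact ⟨s + t, add_mem hs ht, rfl⟩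
  neg_mem' := by
    rintro _ ⟨s, hs, rfl⟩
    exact ⟨-s, neg_mem hs, rfl⟩

theorem self_mem_cyc (v : V) : v ∈ cyc a v := ⟨1, one_mem _, rfl⟩

theorem cyc_le {v w : V} (h : w ∈ cyc a v) : cyc a w ≤ cyc a v := by
  obtain ⟨t, ht, rfl⟩ := h
  rintro _ ⟨s, hs, rfl⟩
  exact ⟨s * t, mul_mem hs ht, rfl⟩

variable [Finite V]

/-- If the automorphisms normalizing `⟨a⟩` are transitive, annihilators vanish. -/
theorem eq_zero_of_transitive
    (h : ∀ v w : V, v ≠ 0 → w ≠ 0 → ∃ τ : V ≃+ V, τ v = w ∧ ∃ i : ℕ, ∀ u, τ (a u) = (a ^ i) (τ u))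
    {t : AddMonoid.End V} (ht : t ∈ gen a) {v : V} (hv : v ≠ 0) (htv : t v = 0) : t = 0 := by
  have hsize : ∀ v w : V, v ≠ 0 → w ≠ 0 → Nat.card (cyc a v) ≤ Nat.card (cyc a w) := by
    intro v w hv hw
    obtain ⟨τ, rfl, i, hi⟩ := h v w hv hw
    have key : ∀ s ∈ gen a, ∃ s' ∈ gen a, ∀ u, τ (s u) = s' (τ u) := by
      intro s hs
      induction hs using Subring.closure_induction with
      | mem x hx =>
        obtain rfl : x = a := hx
        exact ⟨x ^ i, pow_mem (mem_gen x) i, hi⟩
      | zero => exact ⟨0, zero_mem _, fun u => by simp⟩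
      | one => exact ⟨1, one_mem _, fun u => rfl⟩
      | add x y _ _ hx hy =>
        obtain ⟨x', hx', ex⟩ := hx
        obtain ⟨y', hy', ey⟩ := hy
        exact ⟨x' + y', add_mem hx' hy', fun u => by
          change τ (x u + y u) = x' (τ u) + y' (τ u)
          rw [map_add, ex, ey]⟩
      | neg x _ hx =>
        obtain ⟨x', hx', ex⟩ := hx
        exact ⟨-x', neg_mem hx', fun u => by
          change τ (-(x u)) = -(x' (τ u))
          rw [map_neg, ex]⟩
      | mul x y _ _ hx hy =>
        obtain ⟨x', hx', ex⟩ := hx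
        obtain ⟨y', hy', ey⟩ := hy
        exact ⟨x' * y', mul_mem hx' hy', fun u => by
          change τ (x (y u)) = x' (y' (τ u))
          rw [ex, ey]⟩
    refine Nat.card_le_card_of_injective (fun u => ⟨τ u.1, ?_⟩) fun x y e =>
      Subtype.ext (τ.injective (congrArg Subtype.val e :))
    obtain ⟨s, hs, hsu⟩ := u.2
    obtain ⟨s', hs', e⟩ := key s hs
    exact ⟨s', hs', by rw [← e, hsu]⟩
  have hann : ∀ v w : V, v ≠ 0 → w ∈ cyc a v → w ≠ 0 →
      ∀ s ∈ gen a, s w = 0 → s v = 0 := by
    intro v w hv hw hw0 s hs hsw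
    have he : cyc a w = cyc a v :=
      AddSubgroup.eq_of_le_of_card_ge (cyc_le a hw) (hsize v w hv hw0)
    obtain ⟨r, hr, hrw⟩ := he.ge (self_mem_cyc a v)
    rw [← hrw]
    change (s * r) w = 0
    rw [gen_comm a hs hr]
    change r (s w) = 0
    rw [hsw, map_zero]
  apply AddMonoidHom.ext
  intro w
  change t w = 0
  by_contra htw
  have hw : w ≠ 0 := by
    rintro rfl
    exact htw (map_zero t)
  have hu : v + w ≠ 0 := by
    intro e
    have := congrArg t e
    rw [map_add, htv, zero_add, map_zero] at this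
    exact htw this
  have htu : t (v + w) = t w := by rw [map_add, htv, zero_add]
  have h1 : t w ∈ cyc a w := ⟨t, ht, rfl⟩
  have h2 : t w ∈ cyc a (v + w) := ⟨t, ht, htu⟩
  have e1 : cyc a (t w) = cyc a w :=
    AddSubgroup.eq_of_le_of_card_ge (cyc_le a h1) (hsize _ _ hw htw)
  have e2 : cyc a (t w) = cyc a (v + w) :=
    AddSubgroup.eq_of_le_of_card_ge (cyc_le a h2) (hsize _ _ hu htw)
  have h3 : v + w ∈ cyc a w := (e2.symm.trans e1).le (self_mem_cyc a (v + w))
  have h4 : v ∈ cyc a w := by simpa using sub_mem h3 (self_mem_cyc a w)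
  exact htw (hann w v hw h4 hv t ht htv)

section prime

variable {a} {p q : ℕ} [Fact p.Prime] [Fact q.Prime] (hpV : ∀ v : V, p • v = 0) (haq : a ^ q = 1)
  (hfpf : ∀ v, a v = v → v = 0)

include haq hfpf in
omit [Finite V] in
theorem geom_sum_eq_zero : ∑ k ∈ Finset.range q, a ^ k = 0 := by
  apply AddMonoidHom.ext
  intro v
  apply hfpf
  have h1 : a * ∑ k ∈ Finset.range q, a ^ k = ∑ k ∈ Finset.range q, a ^ k := by
    have h := mul_geom_sum a q
    rw [haq, sub_self, sub_mul, one_mul, sub_eq_zero] at h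
    exact h
  exact congrArg (fun f : AddMonoid.End V => f v) h1

include hpV haq hfpf in
theorem eq_zero_of_primitive (hpq : p ≠ q) (hcard : ∃ n, Nat.card V = p ^ n)
    (hprim : orderOf (p : ZMod q) = q - 1)
    {t : AddMonoid.End V} (ht : t ∈ gen a) {v : V} (hv : v ≠ 0) (htv : t v = 0) : t = 0 := by
  classical
  have hq2 : 2 ≤ q := (Fact.out : q.Prime).two_le
  have hpEnd : ∀ s : AddMonoid.End V, (p : ℤ) • s = 0 := fun s => by
    apply AddMonoidHom.ext
    intro u
    change (p : ℤ) • s u = 0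
    rw [natCast_zsmul, hpV]
  let L : Fin (q - 1) → (ZMod p →+ AddMonoid.End V) := fun k =>
    ZMod.lift p ⟨zmultiplesHom _ (a ^ (k : ℕ)), hpEnd _⟩
  let f : (Fin (q - 1) → ZMod p) →+ AddMonoid.End V :=
    ∑ k, (L k).comp (Pi.evalAddMonoidHom (fun _ => ZMod p) k)
  have hlow : ∀ k : Fin (q - 1), a ^ (k : ℕ) ∈ f.range := by
    intro k
    refine ⟨Pi.single k 1, ?_⟩
    simp only [f, AddMonoidHom.finsetSum_apply, AddMonoidHom.comp_apply,
      Pi.evalAddMonoidHom_apply]
    rw [Finset.sum_eq_single k (fun b _ hb => by rw [Pi.single_eq_of_ne hb, map_zero])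
      (fun h => absurd (Finset.mem_univ k) h), Pi.single_eq_same]
    simp only [L]
    rw [show (1 : ZMod p) = ((1 : ℤ) : ZMod p) from Int.cast_one.symm, ZMod.lift_coe]
    simp
  have hpow : ∀ k : ℕ, a ^ k ∈ f.range := by
    intro k
    rw [pow_eq_pow_mod k haq]
    have hk : k % q < q := Nat.mod_lt _ (by omega)
    rcases Nat.lt_or_ge (k % q) (q - 1) with h | h
    · exact hlow ⟨_, h⟩
    · have hsum := geom_sum_eq_zero haq hfpf
      rw [show q = (q - 1) + 1 by omega, Finset.sum_range_succ, add_comm,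
        add_eq_zero_iff_eq_neg] at hsum
      rw [show k % q = q - 1 by omega, hsum]
      exact neg_mem (sum_mem fun j hj => hlow ⟨j, Finset.mem_range.mp hj⟩)
  have hmul : ∀ x ∈ gen a, ∀ s ∈ f.range, x * s ∈ f.range := by
    intro x hx
    induction hx using Subring.closure_induction with
    | mem y hy =>
      obtain rfl : y = a := hy
      rintro _ ⟨c, rfl⟩
      simp only [f, AddMonoidHom.finsetSum_apply, AddMonoidHom.comp_apply,
        Pi.evalAddMonoidHom_apply, Finset.mul_sum]
      refine sum_mem fun k _ => ?_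
      obtain ⟨z, hz⟩ := ZMod.intCast_surjective (c k)
      simp only [L]
      rw [← hz, ZMod.lift_coe, zmultiplesHom_apply, mul_smul_comm, ← pow_succ']
      exact zsmul_mem (hpow _) z
    | zero => intro s _; rw [zero_mul]; exact zero_mem _
    | one => intro s hs; rwa [one_mul]
    | add y z _ _ hy hz => intro s hs; rw [add_mul]; exact add_mem (hy s hs) (hz s hs)
    | neg y _ hy => intro s hs; rw [neg_mul]; exact neg_mem (hy s hs)
    | mul y z _ _ hy hz => intro s hs; rw [mul_assoc]; exact hy _ (hz s hs)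
  have hsub : ∀ x ∈ gen a, x ∈ f.range := fun x hx => by
    simpa using hmul x hx 1 (by simpa using hpow 0)
  haveI : Finite (gen a) := Finite.of_injective (fun x => (⟨x.1, hsub x.1 x.2⟩ : f.range))
    fun x y e => Subtype.ext (congrArg Subtype.val e :)
  have hR : Nat.card (gen a) ≤ p ^ (q - 1) := by
    refine (Nat.card_le_card_of_injective (fun x : gen a => (⟨x.1, hsub x.1 x.2⟩ : f.range))
      fun x y e => Subtype.ext (congrArg Subtype.val e :)).trans ?_
    refine (Nat.card_le_card_of_surjective _ f.rangeRestrict_surjective).trans_eq ?_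
    rw [Nat.card_fun, Nat.card_fin, Nat.card_zmod]
  obtain ⟨n, hn⟩ := hcard
  obtain ⟨m, -, hm⟩ := (Nat.dvd_prime_pow Fact.out).mp
    (hn ▸ AddSubgroup.card_addSubgroup_dvd_card (cyc a v))
  have hamap : ∀ u ∈ cyc a v, a u ∈ cyc a v := fun u hu => cyc_le a hu ⟨a, mem_gen a, rfl⟩
  have hinj : Function.Injective a := by
    intro x y e
    have e2 := congrArg (a ^ (q - 1)) e
    change (a ^ (q - 1) * a) x = (a ^ (q - 1) * a) y at e2
    rwa [← pow_succ, Nat.sub_add_cancel (by omega), haq] at e2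
  haveI : Fintype (cyc a v) := Fintype.ofFinite _
  let σ : Equiv.Perm (cyc a v) := Equiv.ofBijective (fun u => ⟨a u, hamap u u.2⟩)
    (Finite.injective_iff_bijective.mp fun x y e => Subtype.ext (hinj (congrArg Subtype.val e :)))
  have hσk : ∀ (k : ℕ) (u : cyc a v), ((σ ^ k) u : V) = (a ^ k) u := by
    intro k
    induction k with
    | zero => intro u; simp
    | succ k ih =>
      intro u
      rw [pow_succ', Equiv.Perm.mul_apply, pow_succ']
      change a ((σ ^ k) u : V) = a ((a ^ k) u)
      rw [ih]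
  have hmod := Equiv.Perm.card_compl_support_modEq (p := q) (n := 1) (σ := σ)
    (Equiv.ext fun u => Subtype.ext (by rw [pow_one, hσk, haq]; rfl))
  have hfix : σ.supportᶜ = {0} := by
    ext u
    simp only [Finset.mem_compl, Equiv.Perm.mem_support, not_not, Finset.mem_singleton]
    refine ⟨fun e => Subtype.ext (hfpf _ (congrArg Subtype.val e :)), fun e => ?_⟩
    subst e
    exact Subtype.ext (map_zero a)
  rw [hfix, Finset.card_singleton, ← Nat.card_eq_fintype_card, hm] at hmod
  have hm0 : m ≠ 0 := by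
    rintro rfl
    rw [pow_zero] at hm
    have hb := AddSubgroup.eq_bot_of_card_eq _ hm
    exact hv (AddSubgroup.mem_bot.mp (hb ▸ self_mem_cyc a v))
  have hqm : q - 1 ≤ m := by
    rw [← hprim]
    refine orderOf_le_of_pow_eq_one (Nat.pos_of_ne_zero hm0) ?_
    have := (ZMod.natCast_eq_natCast_iff _ _ _).mpr hmod
    push_cast at this
    exact this.symm
  set ev : gen a → cyc a v := fun x => ⟨(x : AddMonoid.End V) v, x, x.2, rfl⟩
  have hsurj : Function.Surjective ev := by
    rintro ⟨w, s, hs, rfl⟩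
    exact ⟨⟨s, hs⟩, rfl⟩
  have hle : Nat.card (gen a) ≤ Nat.card (cyc a v) := by
    rw [hm]
    exact hR.trans (Nat.pow_le_pow_right (Fact.out : p.Prime).pos hqm)
  have hbij := (Nat.bijective_iff_surjective_and_card ev).mpr
    ⟨hsurj, le_antisymm hle (Nat.card_le_card_of_surjective ev hsurj)⟩
  have he : ev ⟨t, ht⟩ = ev ⟨0, zero_mem _⟩ := Subtype.ext (by simpa [ev] using htv)
  exact congrArg Subtype.val (hbij.1 he)

end prime

section field

variable {a} {p q : ℕ} [Fact p.Prime] [Fact q.Prime] [Nontrivial V] (hpV : ∀ v : V, p • v = 0)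
  (haq : a ^ q = 1) (hfpf : ∀ v, a v = v → v = 0)
  (hann : ∀ t ∈ gen a, ∀ v : V, v ≠ 0 → t v = 0 → t = 0)

include hfpf haq in
theorem orderOf_eq : orderOf a = q := by
  refine orderOf_eq_prime haq fun h => ?_
  obtain ⟨v, hv⟩ := exists_ne (0 : V)
  exact hv (hfpf v (by rw [h]; rfl))

instance : Finite (gen a) :=
  haveI : Finite (AddMonoid.End V) := Finite.of_injective (fun f => (f : V → V)) DFunLike.coe_injective
  inferInstance

include hann in
theorem gen_noZeroDivisors {s t : gen a} (h : s * t = 0) : s = 0 ∨ t = 0 := by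
  by_contra hne
  push Not at hne
  obtain ⟨v, hv⟩ := exists_ne (0 : V)
  have h0 : (t : AddMonoid.End V) v ≠ 0 := fun e => hne.2 (Subtype.ext (hann _ t.2 v hv e))
  exact hne.1 (Subtype.ext (hann _ s.2 _ h0
    (congrArg (fun x : gen a => (x : AddMonoid.End V) v) h)))

/-- `gen a` is a field when annihilators vanish. -/
@[reducible] noncomputable def genField : Field (gen a) :=
  letI : CommRing (gen a) := { (inferInstance : Ring (gen a)) with
    mul_comm := fun x y => Subtype.ext (gen_comm a x.2 y.2) }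
  haveI : NoZeroDivisors (gen a) := ⟨fun h => gen_noZeroDivisors hann h⟩
  haveI : Nontrivial (gen a) := ⟨⟨1, 0, fun e => by
    obtain ⟨v, hv⟩ := exists_ne (0 : V)
    exact hv (congrArg (fun x : gen a => (x : AddMonoid.End V) v) e)⟩⟩
  haveI : IsDomain (gen a) := NoZeroDivisors.to_isDomain _
  (Finite.isField_of_domain (gen a)).toField

include hpV haq hfpf hann in
theorem mem_powers_of_semilinear (τ : V ≃+ V) {i : ℕ} (hi : ∀ u, τ (a u) = (a ^ i) (τ u)) :
    ∃ j : ℕ, (i : ZMod q) = (p : ZMod q) ^ j := by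
  letI : Field (gen a) := genField hann
  letI : Fintype (gen a) := Fintype.ofFinite _
  haveI : CharP (gen a) p := by
    refine (CharP.charP_iff_prime_eq_zero Fact.out).mpr (Subtype.ext ?_)
    push_cast
    apply AddMonoidHom.ext
    intro v
    change ((p : AddMonoid.End V)) v = 0
    rw [AddMonoid.End.natCast_apply, hpV]
  letI : Algebra (ZMod p) (gen a) := ZMod.algebra _ p
  let c : AddMonoid.End V →+* AddMonoid.End V :=
    { toFun := fun t => (τ.toAddMonoidHom.comp t).comp τ.symm.toAddMonoidHom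
      map_one' := AddMonoidHom.ext fun u => τ.apply_symm_apply u
      map_mul' := fun s t => AddMonoidHom.ext fun u => by
        change τ (s (t (τ.symm u))) = τ (s (τ.symm (τ (t (τ.symm u)))))
        rw [τ.symm_apply_apply]
      map_zero' := AddMonoidHom.ext fun u => map_zero τ
      map_add' := fun s t => AddMonoidHom.ext fun u => map_add τ _ _ }
  have hca : c a = a ^ i := AddMonoidHom.ext fun u => by
    change τ (a (τ.symm u)) = _
    rw [hi, τ.apply_symm_apply]
    rfl
  have hmem : ∀ t ∈ gen a, c t ∈ gen a := by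
    intro t ht
    have h1 : (gen a).map c ≤ gen a := by
      rw [gen, RingHom.map_closure, Subring.closure_le, Set.image_singleton,
        Set.singleton_subset_iff, hca]
      exact pow_mem (mem_gen a) i
    exact h1 ⟨t, ht, rfl⟩
  let ψ : gen a →+* gen a := c.restrict (gen a) (gen a) hmem
  let ψA : gen a →ₐ[ZMod p] gen a :=
    { ψ with
      commutes' := fun r => RingHom.congr_fun
        (Subsingleton.elim (ψ.comp (algebraMap (ZMod p) (gen a))) (algebraMap (ZMod p) (gen a))) r }
  obtain ⟨n, hn⟩ := (FiniteField.bijective_frobeniusAlgHom_pow (ZMod p) (gen a)).2 ψA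
  have hit : ∀ k : ℕ, ∀ x : gen a,
      (FiniteField.frobeniusAlgHom (ZMod p) (gen a) ^ k) x = x ^ p ^ k := by
    intro k
    induction k with
    | zero => intro x; simp
    | succ k ih =>
      intro x
      rw [pow_succ']
      change FiniteField.frobeniusAlgHom (ZMod p) (gen a)
        ((FiniteField.frobeniusAlgHom (ZMod p) (gen a) ^ k) x) = _
      rw [ih, FiniteField.coe_frobeniusAlgHom]
      change (x ^ p ^ k) ^ Fintype.card (ZMod p) = _
      rw [ZMod.card, ← pow_mul, pow_succ]
  have h2 := DFunLike.congr_fun hn ⟨a, mem_gen a⟩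
  simp only at h2
  rw [hit] at h2
  have h3 : a ^ p ^ (n : ℕ) = a ^ i := by
    have h4 := congrArg Subtype.val h2
    simp only [SubmonoidClass.coe_pow] at h4
    rw [← hca]
    exact h4
  refine ⟨n, ?_⟩
  have hfo : IsOfFinOrder a := by
    rw [← orderOf_pos_iff, orderOf_eq haq hfpf]
    exact (Fact.out : q.Prime).pos
  rw [hfo.pow_eq_pow_iff_modEq, orderOf_eq haq hfpf, ← ZMod.natCast_eq_natCast_iff] at h3
  push_cast at h3
  exact h3.symm

include hann in
omit [Fact q.Prime] in
theorem exists_linear_map (v w : V) (hv : v ≠ 0) (hw : w ≠ 0) :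
    ∃ τ : V ≃+ V, τ v = w ∧ ∀ u, τ (a u) = a (τ u) := by
  letI : Field (gen a) := genField hann
  obtain ⟨f, hfv, hfw⟩ : ∃ f : V →ₗ[gen a] gen a, f v ≠ 0 ∧ f w ≠ 0 := by
    have hex : ∀ u : V, u ≠ 0 → ∃ f : V →ₗ[gen a] gen a, f u ≠ 0 := by
      intro u hu
      by_contra hall
      push Not at hall
      exact hu ((Module.forall_dual_apply_eq_zero_iff (gen a) u).mp hall)
    obtain ⟨f1, h1⟩ := hex v hv
    obtain ⟨f2, h2⟩ := hex w hw
    by_cases h3 : f1 w = 0
    · by_cases h4 : f2 v = 0
      · exact ⟨f1 + f2, by simpa [h4] using h1, by simpa [h3] using h2⟩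
      · exact ⟨f2, h4, h2⟩
    · exact ⟨f1, h1, h3⟩
  let g : V →ₗ[gen a] gen a := (f v)⁻¹ • f
  have hgv : g v = 1 := by simp [g, hfv]
  have hgw : g w ≠ 0 := by simp [g, hfv, hfw]
  let T : V →ₗ[gen a] V := LinearMap.id + g.smulRight (w - v)
  have hT : ∀ u, T u = u + g u • (w - v) := fun u => rfl
  have hinj : Function.Injective T := by
    rw [injective_iff_map_eq_zero]
    intro u hu
    rw [hT] at hu
    have h1 := congrArg g hu
    rw [map_add, map_smul, map_sub, hgv, map_zero, smul_eq_mul] at h1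
    have h2 : g u * g w = 0 := by
      rw [mul_sub, mul_one, add_sub_cancel] at h1
      exact h1
    rcases mul_eq_zero.mp h2 with h | h
    · rwa [h, zero_smul, add_zero] at hu
    · exact absurd h hgw
  let e : V ≃ₗ[gen a] V := LinearEquiv.ofBijective T ⟨hinj, Finite.injective_iff_surjective.mp hinj⟩
  refine ⟨e.toAddEquiv, ?_, fun u => ?_⟩
  · change T v = w
    rw [hT, hgv, one_smul, add_sub_cancel]
  · exact e.map_smul (⟨a, mem_gen a⟩ : gen a) u

include hpV haq hann in
theorem exists_semilinear {i : ℕ} {j : ℕ} (hij : (i : ZMod q) = (p : ZMod q) ^ j) :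
    ∃ τ : V ≃+ V, ∀ u, τ (a u) = (a ^ i) (τ u) := by
  letI : Field (gen a) := genField hann
  letI : Fintype (gen a) := Fintype.ofFinite _
  haveI : CharP (gen a) p := by
    refine (CharP.charP_iff_prime_eq_zero Fact.out).mpr (Subtype.ext ?_)
    push_cast
    apply AddMonoidHom.ext
    intro v
    change ((p : AddMonoid.End V)) v = 0
    rw [AddMonoid.End.natCast_apply, hpV]
  haveI : ExpChar (gen a) p := ExpChar.prime Fact.out
  let b := Module.Free.chooseBasis (gen a) V
  haveI : Finite (Module.Free.ChooseBasisIndex (gen a) V) := Module.Finite.finite_basis b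
  let σ : gen a ≃+* gen a := iterateFrobeniusEquiv (gen a) p j
  let τ : V ≃+ V := b.equivFun.toAddEquiv.trans
    ((AddEquiv.piCongrRight fun _ => σ.toAddEquiv).trans b.equivFun.symm.toAddEquiv)
  have key : ∀ (r : gen a) (u : V), τ (r • u) = (r ^ p ^ j) • τ u := by
    intro r u
    change b.equivFun.symm (fun k => σ (b.equivFun (r • u) k)) =
      (r ^ p ^ j) • b.equivFun.symm (fun k => σ (b.equivFun u k))
    rw [← map_smul]
    congr 1
    funext k
    rw [map_smul, Pi.smul_apply, Pi.smul_apply, smul_eq_mul, smul_eq_mul, map_mul]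
    rfl
  refine ⟨τ, fun u => ?_⟩
  have := key ⟨a, mem_gen a⟩ u
  have he : a ^ p ^ j = a ^ i := by
    have hmod : p ^ j ≡ i [MOD q] := by
      rw [← ZMod.natCast_eq_natCast_iff]
      push_cast
      exact hij.symm
    rw [pow_eq_pow_mod (p ^ j) haq, pow_eq_pow_mod i haq, hmod]
  rw [← he]
  exact this

end field

end Cfsg.Agent.CycMod
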